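import Groth.Prelude.Def_W4c4chowquasisplitPn2
import Groth.Agent.TruncFixLib.Basic
import Mathlib

/-! Quotients of the fixed subalgebra by powers of the first variable. -/

set_option autoImplicit false

open MvPolynomial QsChow TruncPresLib

namespace Groth.Agent.TruncQuotLib

variable {n : ℕ}

theorem two_pow_mul_odd_inj {k l d o : ℕ} (hd : Odd d) (ho : Odd o) (h : 2 ^ k * d = 2 ^ l * o) :
    k = l ∧ d = o := by
  induction k generalizing l with
  | zero =>
    rcases l with _ | l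
    · simpa using h
    · exfalso
      have : 2 ∣ d := ⟨2 ^ l * o, by rw [pow_succ] at h; linarith⟩
      exact (Nat.not_even_iff_odd.2 hd) (even_iff_two_dvd.2 this)
  | succ k ih =>
    rcases l with _ | l
    · exfalso
      have : 2 ∣ o := ⟨2 ^ k * d, by rw [pow_succ] at h; linarith⟩
      exact (Nat.not_even_iff_odd.2 ho) (even_iff_two_dvd.2 this)
    · rw [pow_succ, pow_succ] at h
      obtain ⟨h1, h2⟩ := ih (l := l) (by linarith)
      exact ⟨by rw [h1], h2⟩

theorem kprime_eq_klog {j : ℕ} (hj : 3 ≤ j) (hs : j ≤ numVars n)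
    (h : ∀ k, 2 ^ k * (2 * j - 3) ≠ 2 * n) : kprime n j = klog n j := by
  unfold numVars at hs
  rw [kprime, if_neg (by omega), if_neg (by omega)]
  have hd : 0 < 2 * j - 3 := by omega
  have hq : 1 ≤ (2 * n - 1) / (2 * j - 3) := (Nat.one_le_div_iff hd).2 (by omega)
  have h1 := Nat.pow_log_le_self 2 (x := (2 * n - 1) / (2 * j - 3)) (by omega)
  have h2 := Nat.lt_pow_succ_log_self (b := 2) one_lt_two ((2 * n - 1) / (2 * j - 3))
  rw [Nat.le_div_iff_mul_le hd] at h1
  rw [Nat.div_lt_iff_lt_mul hd] at h2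
  have := h (klog n j + 1)
  unfold klog at this ⊢
  rw [Nat.succ_eq_add_one] at h2
  refine (Nat.log_eq_iff (Or.inr ⟨one_lt_two, ?_⟩)).2 ⟨?_, ?_⟩
  · exact Nat.one_le_iff_ne_zero.1 ((Nat.one_le_div_iff hd).2 (by omega))
  · rw [Nat.le_div_iff_mul_le hd]; omega
  · rw [Nat.div_lt_iff_lt_mul hd]; omega

theorem klog_two (hn : 2 ≤ n) : klog n 2 = Nat.log 2 (2 * n - 1) := by simp [klog]

theorem klog_two_of_pow {b : ℕ} (hb : 1 ≤ b) (hnb : n = 2 ^ b) : klog n 2 = b := by
  have : 2 ≤ 2 ^ b := Nat.le_self_pow (by omega) 2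
  rw [klog_two (by omega), Nat.log_eq_iff (Or.inl (by omega)), pow_succ]
  omega

theorem klog_two_of_ne (hn : 2 ≤ n) (h : n ≠ 2 ^ Nat.log 2 n) : klog n 2 = Nat.log 2 n + 1 := by
  have h1 := Nat.pow_log_le_self 2 (x := n) (by omega)
  have h2 := Nat.lt_pow_succ_log_self (b := 2) one_lt_two n
  rw [Nat.succ_eq_add_one] at h2
  rw [klog_two hn, Nat.log_eq_iff (Or.inl (by omega)), pow_succ _ (Nat.log 2 n + 1)]
  rw [pow_succ] at h2 ⊢
  omega

section

variable (hn : 2 ≤ n) (τ : P n →ₐ[ZMod 2] P n) (hτ1 : τ (eps n 1) = eps n 1)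
  (hτ : ∀ j : ℕ, 2 ≤ j → j ≤ numVars n → τ (eps n j) = eps n j + eps n 1 ^ (2 * j - 3))

include hn hτ1 hτ in
theorem mem_iff (M : ℕ) (q : FreeE n) :
    (∃ w : P n, τ w = w ∧ phi n q = eps n 1 ^ M * w) ↔ q ∈ presIdeal n ⊔ Ideal.span {evar n 1 ^ M} := by
  have he1 : phi n (evar n 1) = eps n 1 := by
    rw [evar_eq (i0 (n := n)) (j := 1) rfl]; simp [phi, genImage, i0]
  constructor
  · rintro ⟨w, hw, hq⟩
    have hwmem : w ∈ AlgHom.equalizer τ (AlgHom.id (ZMod 2) (P n)) := hw
    rw [← TruncFixLib.range_eq hn τ hτ1 hτ] at hwmem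
    obtain ⟨g, rfl⟩ := hwmem
    have hker : q - evar n 1 ^ M * g ∈ presIdeal n := by
      rw [← ker_phi hn, RingHom.mem_ker, map_sub, map_mul, map_pow, he1, hq]
      exact sub_self _
    rw [← sub_add_cancel q (evar n 1 ^ M * g)]
    exact add_mem (Ideal.mem_sup_left hker) (Ideal.mem_sup_right (Ideal.mul_mem_right _ _ (Ideal.subset_span rfl)))
  · intro hq
    obtain ⟨p, hp, r, hr, rfl⟩ := Submodule.mem_sup.1 hq
    obtain ⟨c, rfl⟩ := Ideal.mem_span_singleton'.1 hr
    refine ⟨phi n c, TruncFixLib.range_le hn τ hτ1 hτ ⟨c, rfl⟩, ?_⟩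
    have : phi n p = 0 := presIdeal_le hn hp
    rw [map_add, map_mul, map_pow, he1, this, zero_add, mul_comm]

end

theorem mul_sPoly_mem {I : Ideal (FreeE n)} {j M : ℕ} (e : ℕ) (hM : M ≤ e) (hI : evar n 1 ^ M ∈ I) :
    evar n 1 ^ e * sPoly n j ∈ I := Ideal.mul_mem_right _ _ (Ideal.pow_mem_of_pow_mem I hI hM)

/-- All but the last term of the sums are divisible by a large power of the first variable. -/
theorem sPoly_sub_mem {I : Ideal (FreeE n)} {j m M : ℕ} (hm : klog n j = m + 1) (hM : M ≤ 2 ^ m)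
    (hI : evar n 1 ^ M ∈ I) : sPoly n j - evar n 2 ^ 2 ^ m ∈ I := by
  rw [sPoly, hm, Finset.sum_range_succ, Nat.sub_self, pow_zero, one_mul, add_sub_cancel_right]
  refine Ideal.sum_mem _ fun t ht => Ideal.mul_mem_right _ _ (Ideal.pow_mem_of_pow_mem I hI ?_)
  have : 2 ^ (t + 1) ≤ 2 ^ m := Nat.pow_le_pow_right two_pos (Finset.mem_range.1 ht)
  rw [pow_succ]; omega

theorem hrel_two (hn : 2 ≤ n) :
    hrel n 2 = evar n 1 ^ (2 ^ klog n 2 - n) * xvar n + sPoly n 2 := by simp [hrel]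

theorem hrel_big {j : ℕ} (hj : 3 ≤ j) (hs : j ≤ numVars n) :
    hrel n j = evar n j ^ 2 ^ klog n j + evar n 1 ^ ((2 * j - 3) * 2 ^ klog n j - n) * xvar n +
      evar n 1 ^ ((2 * j - 4) * 2 ^ klog n j) * sPoly n j := by
  rw [hrel, if_neg (by omega), if_pos ⟨hj, hs⟩]

theorem hrel_mem' {j : ℕ} (hj : 1 ≤ j) (hs : j ≤ numVars n) : hrel n j ∈ presIdeal n := by
  have := hrel_mem (n := n) ⟨j - 1, by omega⟩
  rwa [show j - 1 + 1 = j by omega] at this

theorem presIdeal_le_of {I : Ideal (FreeE n)} (hn : 2 ≤ n) (h1 : evar n 1 ^ n ∈ I)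
    (h2 : evar n 1 * xvar n ∈ I) (h3 : xvar n ^ 2 ∈ I) (h4 : hrel n 2 ∈ I)
    (h5 : ∀ j, 3 ≤ j → j ≤ numVars n → hrel n j ∈ I) : presIdeal n ≤ I := by
  refine Ideal.span_le.2 ?_
  rintro f ((rfl | rfl | rfl) | ⟨i, rfl⟩)
  · exact h1
  · exact h2
  · exact h3
  · rcases Nat.lt_or_ge i.val 2 with h | h
    · rcases Nat.eq_zero_or_pos i.val with h0 | h0
      · show hrel n (i.val + 1) ∈ I
        rw [h0, hrel, if_neg (by omega), if_neg (by omega)]; exact zero_mem _
      · show hrel n (i.val + 1) ∈ I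
        rw [show i.val + 1 = 2 by omega]; exact h4
    · exact h5 _ (by omega) i.isLt

theorem numVars_two (hn : 2 ≤ n) : 2 ≤ numVars n := by unfold numVars; omega

theorem sup_eq_oddIdeal (hn : 2 ≤ n) (hodd : Odd n) :
    presIdeal n ⊔ Ideal.span {evar n 1 ^ 1} = oddIdeal n := by
  have hs2 := numVars_two hn
  have hne : n ≠ 2 ^ Nat.log 2 n := fun e => by
    have := Nat.log_pos one_lt_two hn
    exact Nat.not_even_iff_odd.2 hodd (e ▸ (Nat.even_pow.2 ⟨even_two, by omega⟩))
  have hk2 : klog n 2 = kprime n 2 + 1 := by rw [klog_two_of_ne hn hne]; simp [kprime]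
  have hkj : ∀ j, 3 ≤ j → j ≤ numVars n → kprime n j = klog n j ∧ 1 ≤ klog n j := by
    intro j hj hs
    have hdn : 2 * j - 3 < n := by unfold numVars at hs; obtain ⟨r, rfl⟩ := hodd; omega
    refine ⟨kprime_eq_klog hj hs fun k hk => ?_, Nat.log_pos one_lt_two ((Nat.le_div_iff_mul_le (by omega)).2 (by omega))⟩
    have := two_pow_mul_odd_inj (k := k) (l := 1) (d := 2 * j - 3) (o := n) ⟨j - 2, by omega⟩ hodd (by rw [hk, pow_one])
    omega
  have hA : ∀ j, 3 ≤ j → j ≤ numVars n → ∀ I : Ideal (FreeE n), evar n 1 ∈ I →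
      hrel n j - evar n j ^ 2 ^ kprime n j ∈ I := by
    intro j hj hs I hI
    obtain ⟨e, hk⟩ := hkj j hj hs
    have hle := le_mul_pow (n := n) (j := j) (by omega)
    have hne' : (2 * j - 3) * 2 ^ klog n j ≠ n := fun h =>
      Nat.not_even_iff_odd.2 hodd (h ▸ (Nat.even_mul.2 (Or.inr (Nat.even_pow.2 ⟨even_two, by omega⟩))))
    rw [hrel_big hj hs, e, add_assoc, add_sub_cancel_left]
    refine add_mem (Ideal.mul_mem_right _ _ (I.pow_mem_of_mem hI _ (by omega))) (mul_sPoly_mem (M := 1) _ ?_ (by rwa [pow_one]))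
    exact Nat.one_le_iff_ne_zero.2 (mul_ne_zero (by omega) (pow_ne_zero _ two_ne_zero))
  have hB : ∀ I : Ideal (FreeE n), evar n 1 ∈ I → hrel n 2 - evar n 2 ^ 2 ^ kprime n 2 ∈ I := by
    intro I hI
    have hle := le_mul_pow (n := n) (j := 2) le_rfl
    rw [hrel_two hn, add_sub_assoc]
    refine add_mem (Ideal.mul_mem_right _ _ (I.pow_mem_of_mem hI _ ?_)) (sPoly_sub_mem (M := 1) hk2 Nat.one_le_two_pow (by rwa [pow_one]))
    have hne2 : 2 ^ klog n 2 ≠ n := fun h =>
      Nat.not_even_iff_odd.2 hodd (h ▸ (Nat.even_pow.2 ⟨even_two, by omega⟩))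
    omega
  have he1 : evar n 1 ∈ oddIdeal n := Ideal.subset_span (Or.inl (Or.inl rfl))
  have hgen : ∀ j, 1 ≤ j → j ≤ numVars n → evar n j ^ 2 ^ kprime n j ∈ oddIdeal n := fun j hj hs =>
    Ideal.subset_span (Or.inr ⟨⟨j - 1, by omega⟩, by simp [show j - 1 + 1 = j by omega]⟩)
  refine le_antisymm (sup_le ?_ ?_) ?_
  · refine presIdeal_le_of hn (Ideal.pow_mem_of_mem _ he1 _ (by omega)) (Ideal.mul_mem_right _ _ he1)
      (Ideal.subset_span (Or.inl (Or.inr rfl))) ?_ fun j hj hs => ?_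
    · rw [← sub_add_cancel (hrel n 2) (evar n 2 ^ 2 ^ kprime n 2)]
      exact add_mem (hB _ he1) (hgen 2 (by omega) hs2)
    · rw [← sub_add_cancel (hrel n j) (evar n j ^ 2 ^ kprime n j)]
      exact add_mem (hA j hj hs _ he1) (hgen j (by omega) hs)
  · rw [Ideal.span_le, Set.singleton_subset_iff, pow_one]; exact he1
  · have hJ : evar n 1 ∈ presIdeal n ⊔ Ideal.span {evar n 1 ^ 1} := by
      rw [pow_one]; exact Ideal.mem_sup_right (Ideal.subset_span rfl)
    refine Ideal.span_le.2 ?_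
    rintro f ((rfl | rfl) | ⟨i, rfl⟩)
    · exact hJ
    · exact Ideal.mem_sup_left (Ideal.subset_span (Or.inl (Or.inr (Or.inr rfl))))
    · show evar n (i.val + 1) ^ 2 ^ kprime n (i.val + 1) ∈ _
      rcases Nat.lt_or_ge i.val 2 with h | h
      · rcases Nat.eq_zero_or_pos i.val with h0 | h0
        · rw [h0]; exact Ideal.pow_mem_of_mem _ hJ _ Nat.one_le_two_pow
        · rw [show i.val + 1 = 2 by omega, ← sub_sub_cancel (hrel n 2) (evar n 2 ^ 2 ^ kprime n 2)]
          exact sub_mem (Ideal.mem_sup_left (hrel_mem' (by omega) hs2)) (hB _ hJ)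
      · rw [← sub_sub_cancel (hrel n (i.val + 1)) (evar n (i.val + 1) ^ 2 ^ kprime n (i.val + 1))]
        exact sub_mem (Ideal.mem_sup_left (hrel_mem' (by omega) i.isLt)) (hA _ (by omega) i.isLt _ hJ)

/-- The inclusion of the polynomials without `x`. -/
noncomputable def inc (n : ℕ) : FreeP n →ₐ[ZMod 2] FreeE n := rename some

/-- Substitute `g` for `x`. -/
noncomputable def sub (g : FreeP n) : FreeE n →ₐ[ZMod 2] FreeP n :=
  aeval fun o => Option.elim o g X

theorem inc_evarE (j : ℕ) : inc n (evarE n j) = evar n j := by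
  unfold evarE evar inc; split_ifs <;> simp

theorem sub_evar (g : FreeP n) (j : ℕ) : sub g (evar n j) = evarE n j := by
  unfold evarE evar sub; split_ifs <;> simp

theorem sub_x (g : FreeP n) : sub g (xvar n) = g := by simp [sub, xvar]

theorem sub_inc (g q : FreeP n) : sub g (inc n q) = q := by
  simp only [sub, inc, aeval_rename, Function.comp_def, Option.elim]
  exact aeval_X_left_apply q

theorem psi_eq (q : FreeP n) : psi n q = phi n (inc n q) := by
  simp [psi, phi, inc, aeval_rename, Function.comp_def]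

theorem sub_mem_of {J : Ideal (FreeE n)} (g : FreeP n) (hx : xvar n - inc n g ∈ J) (f : FreeE n) :
    f - inc n (sub g f) ∈ J := by
  rw [← Ideal.Quotient.eq]
  have : (Ideal.Quotient.mkₐ (ZMod 2) J) = ((Ideal.Quotient.mkₐ (ZMod 2) J).comp (inc n)).comp (sub g) := by
    refine MvPolynomial.algHom_ext fun o => ?_
    cases o with
    | none => simpa [sub, xvar, Ideal.Quotient.eq] using hx
    | some i => simp [sub, inc]
  exact DFunLike.congr_fun this f

theorem inc_le {J : Ideal (FreeE n)} {I : Ideal (FreeP n)} {S : Set (FreeP n)} (hI : I = Ideal.span S)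
    (h : ∀ p ∈ S, inc n p ∈ J) {p : FreeP n} (hp : p ∈ I) : inc n p ∈ J :=
  (show Ideal.span S ≤ J.comap (inc n) from Ideal.span_le.2 h) (hI ▸ hp)

theorem sub_sPoly (g : FreeP n) (j : ℕ) : sub g (sPoly n j) =
    ∑ t ∈ Finset.range (klog n j), evarE n 1 ^ (2 ^ klog n j - 2 ^ (t + 1)) * evarE n 2 ^ 2 ^ t := by
  simp [sPoly, sub_evar]

theorem pow_two_sum {R : Type*} [CommRing R] [CharP R 2] {ι : Type*} (s : Finset ι) (f : ι → R) :
    (∑ i ∈ s, f i) ^ 2 = ∑ i ∈ s, f i ^ 2 := CharTwo.sum_sq _ _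

theorem pow_case (hn : 2 ≤ n) {b : ℕ} (hb : 1 ≤ b) (hnb : n = 2 ^ b) :
    (∀ f, ∃ q, psi n q = phi n f) ∧ RingHom.ker (psi n) = powIdeal n := by
  have hs2 := numVars_two hn
  have hk2 : klog n 2 = b := klog_two_of_pow hb hnb
  have hk2' : kprime n 2 = b := by simp [kprime, hnb, Nat.log_pow]
  have hk1 : kprime n 1 = b := by
    haveI : Fact (Nat.Prime 2) := ⟨Nat.prime_two⟩
    simp [kprime, twoExp, hnb, padicValNat.prime_pow]
  set g : FreeP n := ∑ t ∈ Finset.range (kprime n 2),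
      evarE n 1 ^ (2 ^ kprime n 2 - 2 ^ (t + 1)) * evarE n 2 ^ 2 ^ t with hg
  have hincg : inc n g = sPoly n 2 := by
    rw [hg, map_sum, sPoly, hk2, hk2']; simp [inc_evarE]
  have hx : xvar n - inc n g ∈ presIdeal n := by
    rw [hincg, CharTwo.sub_eq_add]
    have := hrel_mem' (n := n) (j := 2) (by omega) hs2
    rwa [hrel_two hn, hk2, ← hnb, Nat.sub_self, pow_zero, one_mul] at this
  have hgen : ∀ j, 1 ≤ j → j ≤ numVars n → evarE n j ^ 2 ^ kprime n j ∈ powIdeal n := fun j hj hs =>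
    Ideal.subset_span (Or.inr ⟨⟨j - 1, by omega⟩, by simp [show j - 1 + 1 = j by omega]⟩)
  have he1n : evarE n 1 ^ n ∈ powIdeal n := by
    have := hgen 1 le_rfl (by omega); rwa [hk1, ← hnb] at this
  have he1g : evarE n 1 * g ∈ powIdeal n := Ideal.subset_span (Or.inl rfl)
  have hsq : g ^ 2 - evarE n 2 ^ 2 ^ b ∈ Ideal.span {evarE n 1 ^ n} := by
    obtain ⟨c, rfl⟩ : ∃ c, b = c + 1 := ⟨b - 1, by omega⟩
    rw [hg, hk2', pow_two_sum, Finset.sum_range_succ, Nat.sub_self, pow_zero, one_mul, ← pow_mul,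
      ← pow_succ, add_sub_cancel_right]
    refine Ideal.sum_mem _ fun t ht => ?_
    rw [mul_pow, ← pow_mul]
    refine Ideal.mul_mem_right _ _ (Ideal.pow_mem_of_pow_mem _ (Ideal.subset_span rfl) ?_)
    have : 2 ^ (t + 1) ≤ 2 ^ c := Nat.pow_le_pow_right two_pos (Finset.mem_range.1 ht)
    rw [hnb, pow_succ 2 c]; omega
  have hbig : ∀ j, 3 ≤ j → j ≤ numVars n → kprime n j = klog n j ∧
      (2 * j - 3) * 2 ^ klog n j ≥ n + 2 ^ klog n j := by
    intro j hj hs
    have hodd : Odd (2 * j - 3) := ⟨j - 2, by omega⟩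
    refine ⟨kprime_eq_klog hj hs fun k hk => ?_, ?_⟩
    · have := two_pow_mul_odd_inj (k := k) (l := b + 1) (d := 2 * j - 3) (o := 1) hodd odd_one
        (by rw [hk, hnb, pow_succ]; ring)
      omega
    · have hle := le_mul_pow (n := n) (j := j) (by omega)
      have hne : (2 * j - 3) * 2 ^ klog n j ≠ n := fun e => by
        have := two_pow_mul_odd_inj (k := klog n j) (l := b) (d := 2 * j - 3) (o := 1) hodd odd_one
          (by rw [mul_comm, e, hnb, mul_one])
        omega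
      have hkb : klog n j ≤ b := by
        by_contra hc
        push Not at hc
        have h1 := Nat.pow_log_le_self 2 (x := (2 * n - 1) / (2 * j - 3))
          (by have := (Nat.one_le_div_iff (show 0 < 2 * j - 3 by omega)).2 (show 2 * j - 3 ≤ 2 * n - 1 by unfold numVars at hs; omega); omega)
        rw [Nat.le_div_iff_mul_le (by omega)] at h1
        have h2 : 2 ^ (b + 1) ≤ 2 ^ klog n j := Nat.pow_le_pow_right two_pos hc
        have := Nat.mul_le_mul h2 (show 1 ≤ 2 * j - 3 by omega)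
        rw [mul_one] at this
        unfold klog at this
        rw [pow_succ, ← hnb] at this
        omega
      obtain ⟨e, he⟩ : 2 ^ klog n j ∣ n := (Nat.pow_dvd_pow 2 hkb).trans hnb.symm.dvd
      have hlt : e < 2 * j - 3 := by
        by_contra hc
        push Not at hc
        have := Nat.mul_le_mul_left (2 ^ klog n j) hc
        have : (2 * j - 3) * 2 ^ klog n j = 2 ^ klog n j * (2 * j - 3) := mul_comm _ _
        omega
      have := Nat.mul_le_mul_left (2 ^ klog n j) (show e + 1 ≤ 2 * j - 3 by omega)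
      rw [mul_add, mul_one, ← he, mul_comm] at this
      exact this
  refine ⟨fun f => ⟨sub g f, ?_⟩, le_antisymm (fun q hq => ?_) (fun q hq => ?_)⟩
  · have := presIdeal_le hn (sub_mem_of g hx f)
    rw [RingHom.mem_ker, map_sub, sub_eq_zero] at this
    rw [psi_eq, this]
  · rw [RingHom.mem_ker, psi_eq] at hq
    have hq' : inc n q ∈ presIdeal n := by rw [← ker_phi hn]; exact hq
    rw [← sub_inc g q]
    suffices h : presIdeal n ≤ (powIdeal n).comap (sub g) from h hq'
    refine presIdeal_le_of hn ?_ ?_ ?_ ?_ fun j hj hs => ?_ <;> rw [Ideal.mem_comap]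
    · simpa [sub_evar] using he1n
    · simpa [sub_evar, sub_x] using he1g
    · rw [map_pow, sub_x, ← sub_add_cancel (g ^ 2) (evarE n 2 ^ 2 ^ b)]
      refine add_mem ((Ideal.span_le.2 (Set.singleton_subset_iff.2 he1n)) hsq) ?_
      have := hgen 2 (by omega) hs2; rwa [hk2'] at this
    · rw [hrel_two hn, map_add, map_mul, map_pow, sub_evar, sub_x, sub_sPoly, hk2, hg, hk2', ← hnb, Nat.sub_self,
        pow_zero, one_mul, CharTwo.add_self_eq_zero]
      exact zero_mem _
    · obtain ⟨e, hge⟩ := hbig j hj hs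
      rw [hrel_big hj hs, map_add, map_add, map_mul, map_mul, map_pow, map_pow, map_pow, sub_evar, sub_evar, sub_x, ← e]
      refine add_mem (add_mem (hgen j (by omega) hs) ?_) ?_
      · have h1 : 1 ≤ 2 ^ klog n j := Nat.one_le_two_pow
        obtain ⟨r, hr⟩ : ∃ r, (2 * j - 3) * 2 ^ kprime n j - n = r + 1 := ⟨(2 * j - 3) * 2 ^ kprime n j - n - 1, by rw [e]; omega⟩
        rw [hr, pow_succ, mul_assoc]
        exact Ideal.mul_mem_left _ _ he1g
      · refine Ideal.mul_mem_right _ _ (Ideal.pow_mem_of_pow_mem _ he1n ?_)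
        rw [e, show 2 * j - 4 = 2 * j - 3 - 1 by omega, Nat.sub_mul, one_mul]
        omega
  · rw [RingHom.mem_ker, psi_eq]
    refine presIdeal_le hn (inc_le (J := presIdeal n) rfl ?_ hq)
    have hP1 : evar n 1 ^ n ∈ presIdeal n := Ideal.subset_span (Or.inl (Or.inl rfl))
    have hPx : evar n 1 * inc n g ∈ presIdeal n := by
      have h1 : evar n 1 * xvar n ∈ presIdeal n := Ideal.subset_span (Or.inl (Or.inr (Or.inl rfl)))
      have := sub_mem h1 (Ideal.mul_mem_left _ (evar n 1) hx)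
      rwa [mul_sub, sub_sub_cancel] at this
    rintro p (rfl | ⟨i, rfl⟩)
    · rwa [map_mul, inc_evarE]
    · simp only [map_pow, inc_evarE]
      rcases Nat.lt_or_ge i.val 2 with h | h
      · rcases Nat.eq_zero_or_pos i.val with h0 | h0
        · rwa [h0, hk1, ← hnb]
        · rw [show i.val + 1 = 2 by omega, hk2']
          have h1 : (inc n g) ^ 2 ∈ presIdeal n := by
            have h3 : xvar n ^ 2 ∈ presIdeal n := Ideal.subset_span (Or.inl (Or.inr (Or.inr rfl)))
            have := sub_mem h3 (Ideal.mul_mem_left _ (xvar n + inc n g) hx)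
            rwa [show xvar n ^ 2 - (xvar n + inc n g) * (xvar n - inc n g) = inc n g ^ 2 by ring] at this
          have h2 := inc_le (J := presIdeal n) rfl (by rintro p rfl; rwa [map_pow, inc_evarE]) hsq
          rw [map_sub, map_pow, map_pow, inc_evarE] at h2
          have := sub_mem h1 h2
          rwa [sub_sub_cancel] at this
      · obtain ⟨e, hge⟩ := hbig _ (show 3 ≤ i.val + 1 by omega) i.isLt
        have h := hrel_mem i
        rw [hrel_big (by omega) i.isLt, add_assoc] at h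
        rw [e]
        have hrest : evar n 1 ^ ((2 * (i.val + 1) - 3) * 2 ^ klog n (i.val + 1) - n) * xvar n +
            evar n 1 ^ ((2 * (i.val + 1) - 4) * 2 ^ klog n (i.val + 1)) * sPoly n (i.val + 1) ∈ presIdeal n := by
          refine add_mem ?_ (mul_sPoly_mem _ ?_ hP1)
          · have h1 : 1 ≤ 2 ^ klog n (i.val + 1) := Nat.one_le_two_pow
            obtain ⟨r, hr⟩ : ∃ r, (2 * (i.val + 1) - 3) * 2 ^ klog n (i.val + 1) - n = r + 1 :=
              ⟨(2 * (i.val + 1) - 3) * 2 ^ klog n (i.val + 1) - n - 1, by omega⟩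
            rw [hr, pow_succ, mul_assoc]
            exact Ideal.mul_mem_left _ _ (Ideal.subset_span (Or.inl (Or.inr (Or.inl rfl))))
          · rw [show 2 * (i.val + 1) - 4 = 2 * (i.val + 1) - 3 - 1 by omega, Nat.sub_mul, one_mul]
            omega
        have := sub_mem h hrest
        rwa [add_sub_cancel_right] at this

theorem even_case (hn : 2 ≤ n) (ha : 1 ≤ twoExp n) (hne : n ≠ 2 ^ twoExp n) :
    (∀ q : FreeP n, inc n q ∈ presIdeal n ⊔ Ideal.span {evar n 1 ^ 2 ^ twoExp n} ↔ q ∈ evenIdeal n) ∧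
      ∀ f : FreeE n, ∃ q : FreeP n, f - inc n q ∈ presIdeal n ⊔ Ideal.span {evar n 1 ^ 2 ^ twoExp n} := by
  have hs2 := numVars_two hn
  obtain ⟨o, ho⟩ : 2 ^ twoExp n ∣ n := pow_padicValNat_dvd
  have hoodd : Odd o := by
    rw [← Nat.not_even_iff_odd]
    rintro ⟨c, rfl⟩
    haveI : Fact (Nat.Prime 2) := ⟨Nat.prime_two⟩
    exact pow_succ_padicValNat_not_dvd (p := 2) (n := n) (by omega) ⟨c, by unfold twoExp at ho; rw [pow_succ, mul_assoc, two_mul]; exact ho⟩
  set A := twoExp n with hA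
  have ho3 : 3 ≤ o := by
    obtain ⟨r, rfl⟩ := hoodd
    by_contra hc
    exact hne (by rw [show 2 * r + 1 = 1 by omega, mul_one] at ho; exact ho)
  have hA2 : 2 ≤ 2 ^ A := Nat.le_self_pow (by omega) 2
  have ho2 : 2 * o ≤ n := le_of_le_of_eq (Nat.mul_le_mul_right o hA2) ho.symm
  set l := lIdx n with hl
  have hldef : l = (o + 3) / 2 := by
    rw [hl, lIdx, ← hA]; congr 2; exact Nat.div_eq_of_eq_mul_left (by positivity) (by rw [ho, mul_comm])
  have hl3 : 2 * l - 3 = o ∧ 3 ≤ l ∧ l ≤ numVars n := by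
    obtain ⟨r, rfl⟩ := hoodd; unfold numVars; omega
  have hkl : klog n l = A := by
    rw [klog, hl3.1, Nat.log_eq_iff (Or.inl (by omega)), Nat.le_div_iff_mul_le (by omega),
      Nat.div_lt_iff_lt_mul (by omega), pow_succ, mul_right_comm, ← ho]
    omega
  have hkl' : kprime n l = A + 1 := by
    rw [kprime, if_neg (by omega), if_neg (by omega), hl3.1,
      show 2 * n = 2 ^ (A + 1) * o by rw [ho, pow_succ]; ring, Nat.mul_div_cancel _ (by omega), Nat.log_pow one_lt_two]
  have hlogne : n ≠ 2 ^ Nat.log 2 n := fun e => by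
    have := (two_pow_mul_odd_inj hoodd odd_one (k := A) (l := Nat.log 2 n) (by rw [mul_one, ← e, ho])).2
    omega
  have hk2 : klog n 2 = kprime n 2 + 1 := by rw [klog_two_of_ne hn hlogne]; simp [kprime]
  have hAm : 2 ^ A ≤ 2 ^ kprime n 2 := by
    refine Nat.pow_le_pow_right two_pos ?_
    simp only [kprime, OfNat.ofNat_ne_one, if_false, if_true]
    exact Nat.le_log_of_pow_le one_lt_two (Nat.le_of_dvd (by omega) ⟨o, ho⟩)
  have hk1 : kprime n 1 = A := by simp [kprime, hA]
  -- exponents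
  have hexp : ∀ j, 3 ≤ j → j ≤ numVars n → 2 ^ A ≤ (2 * j - 4) * 2 ^ klog n j ∧
      (j ≠ l → kprime n j = klog n j ∧ 1 ≤ (2 * j - 3) * 2 ^ klog n j - n) := by
    intro j hj hs
    have hle := le_mul_pow (n := n) (j := j) (by omega)
    have hodd : Odd (2 * j - 3) := ⟨j - 2, by omega⟩
    constructor
    · have h3 : 3 * 2 ^ A ≤ n := by rw [ho, mul_comm]; exact Nat.mul_le_mul_left _ ho3
      have h1 : 2 * 2 ^ klog n j ≤ (2 * j - 4) * 2 ^ klog n j := Nat.mul_le_mul_right _ (by omega)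
      have h2 : (2 * j - 3) * 2 ^ klog n j = (2 * j - 4) * 2 ^ klog n j + 2 ^ klog n j := by
        rw [show 2 * j - 3 = 2 * j - 4 + 1 by omega, add_mul, one_mul]
      omega
    · intro hjl
      refine ⟨kprime_eq_klog hj hs fun k hk => ?_, ?_⟩
      · have := two_pow_mul_odd_inj (k := k) (l := A + 1) hodd hoodd (by rw [hk, ho, pow_succ]; ring)
        omega
      · have hne' : (2 * j - 3) * 2 ^ klog n j ≠ n := fun e => by
          have := two_pow_mul_odd_inj (k := klog n j) (l := A) hodd hoodd (by rw [mul_comm, e, ← ho])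
          omega
        omega
  set g : FreeP n := evarE n l ^ 2 ^ A with hg
  set J := presIdeal n ⊔ Ideal.span {evar n 1 ^ 2 ^ A} with hJ
  have hJ1 : evar n 1 ^ 2 ^ A ∈ J := Ideal.mem_sup_right (Ideal.subset_span rfl)
  have hx : xvar n - inc n g ∈ J := by
    have h : hrel n l ∈ J := Ideal.mem_sup_left (hrel_mem' (by omega) hl3.2.2)
    rw [hrel_big hl3.2.1 hl3.2.2, hkl, hl3.1, mul_comm o, ← ho, Nat.sub_self, pow_zero, one_mul] at h
    have h' := sub_mem h (mul_sPoly_mem (j := l) _ (hkl ▸ (hexp l hl3.2.1 hl3.2.2).1) hJ1)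
    rw [add_sub_cancel_right] at h'
    rw [hg, map_pow, inc_evarE, CharTwo.sub_eq_add, add_comm]
    exact h'
  have hJx : evar n 1 * xvar n ∈ J := Ideal.mem_sup_left (Ideal.subset_span (Or.inl (Or.inr (Or.inl rfl))))
  have hgen : ∀ j, 1 ≤ j → j ≤ numVars n → evarE n j ^ 2 ^ kprime n j ∈ evenIdeal n := fun j hj hs =>
    Ideal.subset_span (Or.inr ⟨⟨j - 1, by omega⟩, by simp [show j - 1 + 1 = j by omega]⟩)
  have hI1 : evarE n 1 ^ 2 ^ A ∈ evenIdeal n := hk1 ▸ hgen 1 le_rfl (by omega)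
  have hI1g : evarE n 1 * g ∈ evenIdeal n :=
    Ideal.subset_span (Or.inl (by rw [hg, ← hl, hkl', Nat.add_sub_cancel]; rfl))
  refine ⟨fun q => ⟨fun hq => ?_, fun hq => ?_⟩, fun f => ⟨sub g f, sub_mem_of g hx f⟩⟩
  · rw [← sub_inc g q]
    suffices h : J ≤ (evenIdeal n).comap (sub g) from h hq
    refine sup_le (presIdeal_le_of hn ?_ ?_ ?_ ?_ fun j hj hs => ?_) ?_
    · rw [Ideal.mem_comap, map_pow, sub_evar]
      exact Ideal.pow_mem_of_pow_mem _ hI1 (Nat.le_of_dvd (by omega) ⟨o, ho⟩)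
    · rw [Ideal.mem_comap, map_mul, sub_evar, sub_x]; exact hI1g
    · rw [Ideal.mem_comap, map_pow, sub_x, hg, ← pow_mul, ← pow_succ, ← hkl']
      exact hgen l (by omega) hl3.2.2
    · have hmem : hrel n 2 - evar n 2 ^ 2 ^ kprime n 2 ∈ (evenIdeal n).comap (sub g) := by
        have h1 : evar n 1 ^ 2 ^ A ∈ (evenIdeal n).comap (sub g) := by rw [Ideal.mem_comap, map_pow, sub_evar]; exact hI1
        rw [hrel_two hn, add_sub_assoc]
        refine add_mem ?_ (sPoly_sub_mem hk2 hAm h1)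
        rw [Ideal.mem_comap, map_mul, map_pow, sub_evar, sub_x]
        have hle := le_mul_pow (n := n) (j := 2) le_rfl
        obtain ⟨r, hr⟩ : ∃ r, 2 ^ klog n 2 - n = r + 1 := by
          refine ⟨2 ^ klog n 2 - n - 1, ?_⟩
          have : 2 ^ klog n 2 ≠ n := fun e => by
            have := (two_pow_mul_odd_inj hoodd odd_one (k := A) (l := klog n 2) (by rw [mul_one, e, ho])).2
            omega
          omega
        rw [hr, pow_succ, mul_assoc]
        exact Ideal.mul_mem_left _ _ hI1g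
      rw [← sub_add_cancel (hrel n 2) (evar n 2 ^ 2 ^ kprime n 2)]
      refine add_mem hmem ?_
      rw [Ideal.mem_comap, map_pow, sub_evar]
      exact hgen 2 (by omega) hs2
    · obtain ⟨he, hjl'⟩ := hexp j hj hs
      rw [Ideal.mem_comap, hrel_big hj hs, map_add, map_add, map_mul, map_mul, map_pow, map_pow, map_pow, sub_evar,
        sub_evar, sub_x]
      refine add_mem ?_ (Ideal.mul_mem_right _ _ (Ideal.pow_mem_of_pow_mem _ hI1 he))
      by_cases hjl : j = l
      · rw [hjl, hkl, hl3.1, mul_comm o, ← ho, Nat.sub_self, pow_zero, one_mul, hg, CharTwo.add_self_eq_zero]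
        exact zero_mem _
      · obtain ⟨e, h1⟩ := hjl' hjl
        obtain ⟨r, hr⟩ : ∃ r, (2 * j - 3) * 2 ^ klog n j - n = r + 1 := ⟨_, (Nat.sub_add_cancel h1).symm⟩
        rw [hr, pow_succ, mul_assoc, ← e]
        exact add_mem (hgen j (by omega) hs) (Ideal.mul_mem_left _ _ hI1g)
    · rw [Ideal.span_le, Set.singleton_subset_iff, SetLike.mem_coe, Ideal.mem_comap, map_pow, sub_evar]
      exact hI1
  · refine inc_le (J := J) rfl ?_ hq
    have hJg : evar n 1 * inc n g ∈ J := by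
      have := sub_mem hJx (Ideal.mul_mem_left _ (evar n 1) hx)
      rwa [mul_sub, sub_sub_cancel] at this
    rintro p (rfl | ⟨i, rfl⟩)
    · rw [← hl, hkl', Nat.add_sub_cancel, map_mul, inc_evarE]; exact hJg
    · simp only [map_pow, inc_evarE]
      rcases Nat.lt_or_ge i.val 2 with h | h
      · rcases Nat.eq_zero_or_pos i.val with h0 | h0
        · rwa [h0, hk1]
        · rw [show i.val + 1 = 2 by omega]
          have h4 : hrel n 2 ∈ J := Ideal.mem_sup_left (hrel_mem' (by omega) hs2)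
          have hne2 : 2 ^ klog n 2 ≠ n := fun e => by
            have := (two_pow_mul_odd_inj hoodd odd_one (k := A) (l := klog n 2) (by rw [mul_one, e, ho])).2
            omega
          have hle := le_mul_pow (n := n) (j := 2) le_rfl
          have h5 : evar n 1 ^ (2 ^ klog n 2 - n) * xvar n ∈ J := by
            obtain ⟨r, hr⟩ : ∃ r, 2 ^ klog n 2 - n = r + 1 := ⟨2 ^ klog n 2 - n - 1, by omega⟩
            rw [hr, pow_succ, mul_assoc]; exact Ideal.mul_mem_left _ _ hJx
          have := sub_mem (sub_mem h4 h5) (sPoly_sub_mem hk2 hAm hJ1)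
          rwa [hrel_two hn, add_sub_cancel_left, sub_sub_cancel] at this
      · by_cases hjl : i.val + 1 = l
        · rw [hjl, hkl', pow_succ, pow_mul]
          have hx2 : xvar n ^ 2 ∈ J := Ideal.mem_sup_left (Ideal.subset_span (Or.inl (Or.inr (Or.inr rfl))))
          have := sub_mem hx2 (Ideal.mul_mem_left _ (xvar n + inc n g) hx)
          rw [show xvar n ^ 2 - (xvar n + inc n g) * (xvar n - inc n g) = inc n g ^ 2 by ring, hg, map_pow, inc_evarE] at this
          exact this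
        · obtain ⟨he, hjl'⟩ := hexp _ (show 3 ≤ i.val + 1 by omega) i.isLt
          obtain ⟨e, h1⟩ := hjl' hjl
          have h4 : hrel n (i.val + 1) ∈ J := Ideal.mem_sup_left (hrel_mem i)
          obtain ⟨r, hr⟩ : ∃ r, (2 * (i.val + 1) - 3) * 2 ^ klog n (i.val + 1) - n = r + 1 :=
            ⟨_, (Nat.sub_add_cancel h1).symm⟩
          have hrest := add_mem (Ideal.mul_mem_left J (evar n 1 ^ r) hJx) (mul_sPoly_mem (j := i.val + 1) _ he hJ1)
          rw [hrel_big (by omega) i.isLt, hr, pow_succ, mul_assoc, add_assoc, ← e] at h4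
          rw [← e] at hrest
          have := sub_mem h4 hrest
          rwa [add_sub_cancel_right] at this

end Groth.Agent.TruncQuotLib
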